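import Groth.Agent.EGA43.ConnCount.Dvr
import Groth.Agent.EGA43.CMChart.Main
import Groth.Agent.EGA43.DvrFlat.Basic
import Groth.Agent.RelVALib.NormalAlg
import Groth.Agent.Misc15.StalkLoc

/-!
# Geometric integrality over a complete discrete valuation ring (EGA IV 12.2.4 (viii))
-/

set_option autoImplicit false
set_option backward.isDefEq.respectTransparency false
set_option linter.style.haveILetI false

universe u

open CategoryTheory CategoryTheory.Limits AlgebraicGeometry TopologicalSpace Opposite IsLocalRing

namespace Groth.Agent.EGA43.GeomIntegral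

open Groth.Agent Groth.Agent.EGA43.ConnCount

/-- A Noetherian local ring with regular `t` and domain quotient is a domain. -/
theorem isDomain_of_quotient_span {B : Type u} [CommRing B] [IsLocalRing B] [IsNoetherianRing B] (t : B)
    (ht : t ∈ maximalIdeal B) (hreg : IsSMulRegular B t) [hdom : IsDomain (B ⧸ Ideal.span {t})] : IsDomain B := by
  have hkrull : ⨅ n : ℕ, Ideal.span {t} ^ n = ⊥ := Ideal.iInf_pow_eq_bot_of_isLocalRing _ fun h =>
    (maximalIdeal.isMaximal B).ne_top (top_le_iff.1 (h ▸ (Ideal.span_singleton_le_iff_mem _).2 ht))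
  haveI hp : (Ideal.span {t}).IsPrime := (Ideal.Quotient.isDomain_iff_prime _).1 hdom
  have hdec : ∀ a : B, a ≠ 0 → ∃ (n : ℕ) (a' : B), a = t ^ n * a' ∧ a' ∉ Ideal.span {t} := by
    intro a ha
    by_contra hcon
    push Not at hcon
    have hmem : ∀ n, ∃ a', a = t ^ n * a' := by
      intro n
      induction n with
      | zero => exact ⟨a, by rw [pow_zero, one_mul]⟩
      | succ n ih =>
        obtain ⟨a', h'⟩ := ih
        obtain ⟨c, hc⟩ := Ideal.mem_span_singleton.1 (hcon n a' h')
        exact ⟨c, by rw [h', hc, pow_succ, mul_assoc]⟩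
    refine ha ((Submodule.mem_bot B).1 (hkrull.le ((Submodule.mem_iInf _).2 fun n => ?_)))
    obtain ⟨a', h'⟩ := hmem n
    rw [Ideal.span_singleton_pow, Ideal.mem_span_singleton]
    exact ⟨a', h'⟩
  haveI : NoZeroDivisors B := ⟨fun {a b} hab => by
    by_contra hne
    push Not at hne
    obtain ⟨n, a', rfl, ha'⟩ := hdec a hne.1
    obtain ⟨m, b', rfl, hb'⟩ := hdec b hne.2
    have h0 : a' * b' = 0 := by
      refine (hreg.pow (n + m)) ?_
      show t ^ (n + m) * (a' * b') = t ^ (n + m) * 0
      rw [mul_zero, ← hab]
      ring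
    exact (hp.mem_or_mem (h0 ▸ (Ideal.span {t}).zero_mem)).elim ha' hb'⟩
  exact NoZeroDivisors.to_isDomain B

variable {A : Type u} [CommRing A] [IsDomain A] [IsDiscreteValuationRing A]

/-- A flat morphism over a discrete valuation ring has domain local rings where the closed fibre has. -/
theorem isDomain_stalk {X : Scheme.{u}} (q : X ⟶ Spec (CommRingCat.of A)) [LocallyOfFiniteType q] [Flat q]
    (x : X) (hx : q x = closedPoint A) (hd : IsDomain ((q.fiber (q x)).presheaf.stalk (q.asFiber x))) :
    IsDomain (X.presheaf.stalk x) := by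
  haveI : IsLocallyNoetherian X := LocallyOfFiniteType.isLocallyNoetherian q
  have hb : Function.Bijective (StructureSheaf.toStalk (CommRingCat.of A) (q x)).hom :=
    FlatBC.toStalk_bijective A (q x) (congrArg PrimeSpectrum.asIdeal hx)
  obtain ⟨π, hπ⟩ := IsDiscreteValuationRing.exists_irreducible A
  let e : A ≃+* (Spec (CommRingCat.of A)).presheaf.stalk (q x) := RingEquiv.ofBijective _ hb
  let t : X.presheaf.stalk x := (q.stalkMap x).hom (e π)
  have hspan : (maximalIdeal ((Spec (CommRingCat.of A)).presheaf.stalk (q x))).map (q.stalkMap x).hom =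
      Ideal.span {t} := by
    rw [← IsLocalRing.map_maximalIdeal_of_surjective e.toRingHom e.surjective, hπ.maximalIdeal_eq, Ideal.map_span,
      Ideal.map_span, Set.image_singleton, Set.image_singleton]
    rfl
  have ht : t ∈ maximalIdeal (X.presheaf.stalk x) := by
    refine map_nonunit (q.stalkMap x).hom _ ?_
    rw [← IsLocalRing.map_maximalIdeal_of_surjective e.toRingHom e.surjective]
    exact Ideal.mem_map_of_mem _ (hπ.maximalIdeal_eq ▸ Ideal.mem_span_singleton_self π)
  obtain ⟨eq⟩ := CMChart.exists_fibre_stalk_equiv q x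
  haveI : IsDomain (X.presheaf.stalk x ⧸ Ideal.span {t}) := by
    rw [← hspan]
    exact eq.injective.isDomain eq.toRingHom
  have hreg : IsSMulRegular (X.presheaf.stalk x) t := by
    letI : Algebra A (X.presheaf.stalk x) := ((q.stalkMap x).hom.comp e.toRingHom).toAlgebra
    haveI : Module.Flat A (X.presheaf.stalk x) :=
      RingHom.flat_algebraMap_iff.1 (RingHom.Flat.comp (RingHom.Flat.of_bijective e.bijective) (Flat.stalkMap q x))
    intro a b hab
    refine Module.Flat.isSMulRegular_of_nonZeroDivisors (R := A) (M := X.presheaf.stalk x) (r := π)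
      (mem_nonZeroDivisors_of_ne_zero hπ.ne_zero) ?_
    simp only [Algebra.smul_def]
    exact hab
  exact isDomain_of_quotient_span t ht hreg

/-- Domain local rings are inherited by generizations. -/
theorem isDomain_stalk_of_specializes {X : Scheme.{u}} {z x : X} (h : z ⤳ x) [IsDomain (X.presheaf.stalk x)] :
    IsDomain (X.presheaf.stalk z) := by
  letI := (X.presheaf.stalkSpecializes h).hom.toAlgebra
  haveI := Misc15.isLocalization_stalkSpecializes h
  refine IsLocalization.isDomain_of_le_nonZeroDivisors (R := X.presheaf.stalk x) (X.presheaf.stalk z)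
    (M := (IsUnit.submonoid (X.presheaf.stalk z)).comap (X.presheaf.stalkSpecializes h).hom) fun a ha => ?_
  refine mem_nonZeroDivisors_of_ne_zero fun h0 => ?_
  have hu : IsUnit ((X.presheaf.stalkSpecializes h).hom a) := ha
  rw [h0, map_zero] at hu
  exact not_isUnit_zero hu

/-- Domain local rings and connectedness give irreducibility. -/
theorem irreducibleSpace_of_isDomain_stalk {X : Scheme.{u}} [IsLocallyNoetherian X] [ConnectedSpace X]
    (h : ∀ x : X, IsDomain (X.presheaf.stalk x)) : IrreducibleSpace X := by
  have hnhd : ∀ y : X, ∃ W : Set X, IsOpen W ∧ y ∈ W ∧ IsIrreducible W := fun y => by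
    obtain ⟨V, hV, hyV, -⟩ := exists_isAffineOpen_mem_and_subset (x := y) (U := ⊤) trivial
    haveI := IsLocallyNoetherian.component_noetherian (X := X) ⟨V, hV⟩
    haveI := h y
    letI : Algebra Γ(X, V) (X.presheaf.stalk y) := TopCat.Presheaf.algebra_section_stalk X.presheaf ⟨y, hyV⟩
    haveI : IsLocalization.AtPrime (X.presheaf.stalk y) (hV.primeIdealOf ⟨y, hyV⟩).asIdeal :=
      hV.isLocalization_stalk ⟨y, hyV⟩
    obtain ⟨t, ht, hT⟩ := RelVALib.exists_isDomain_away (S := X.presheaf.stalk y) (hV.primeIdealOf ⟨y, hyV⟩).asIdeal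
    letI := (X.presheaf.map (homOfLE (X.basicOpen_le t)).op).hom.toAlgebra
    haveI := hV.isLocalization_basicOpen t
    haveI : IsDomain Γ(X, X.basicOpen t) := hT _
    refine ⟨X.basicOpen t, (X.basicOpen t).isOpen, ?_, ?_⟩
    · have h1 : hV.primeIdealOf ⟨y, hyV⟩ ∈ hV.fromSpec ⁻¹ᵁ X.basicOpen t := by
        rw [hV.fromSpec_preimage_basicOpen]; exact ht
      have h2 : hV.fromSpec (hV.primeIdealOf ⟨y, hyV⟩) ∈ X.basicOpen t := h1
      rwa [hV.fromSpec_primeIdealOf] at h2
    · rw [← (hV.basicOpen t).range_fromSpec, ← Set.image_univ]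
      exact (IrreducibleSpace.isIrreducible_univ (PrimeSpectrum Γ(X, X.basicOpen t))).image _
        (hV.basicOpen t).fromSpec.continuous.continuousOn
  obtain ⟨x⟩ : Nonempty X := inferInstance
  have hopen : IsOpen (irreducibleComponent x) := isOpen_iff_forall_mem_open.2 fun y hy => by
    obtain ⟨W, hW, hyW, hWi⟩ := hnhd y
    have h1 : irreducibleComponent x ⊆ closure W :=
      (subset_closure_inter_of_isPreirreducible_of_isOpen isIrreducible_irreducibleComponent.2 hW ⟨y, hy, hyW⟩).trans
        (closure_mono Set.inter_subset_right)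
    exact ⟨W, subset_closure.trans
      ((irreducibleComponent_mem_irreducibleComponents x).2 hWi.closure h1), hW, hyW⟩
  have h := IsClopen.eq_univ ⟨isClosed_irreducibleComponent, hopen⟩ ⟨x, mem_irreducibleComponent⟩
  exact (irreducibleSpace_def _).2 (by rw [Set.top_eq_univ, ← h]; exact isIrreducible_irreducibleComponent)

/-- A connected locally Noetherian scheme with domain local rings is integral. -/
theorem isIntegral_of_isDomain_stalk {X : Scheme.{u}} [IsLocallyNoetherian X] [ConnectedSpace X]
    (h : ∀ x : X, IsDomain (X.presheaf.stalk x)) : IsIntegral X := by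
  haveI : ∀ x : X, _root_.IsReduced (X.presheaf.stalk x) := fun x => by haveI := h x; infer_instance
  haveI : IsReduced X := isReduced_of_isReduced_stalk X
  haveI : IrreducibleSpace X := irreducibleSpace_of_isDomain_stalk h
  exact isIntegral_of_irreducibleSpace_of_isReduced _

/-- A proper flat family over a discrete valuation ring with integral closed fibre is integral. -/
theorem isIntegral_of_closedFibre {X : Scheme.{u}} (q : X ⟶ Spec (CommRingCat.of A)) [IsProper q] [Flat q]
    [IsIntegral (q.fiber (closedPoint A))] : IsIntegral X := by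
  haveI : IsLocallyNoetherian X := LocallyOfFiniteType.isLocallyNoetherian q
  have hsp : ∀ x : X, ∃ x', q x' = closedPoint A ∧ x ⤳ x' := fun x => by
    obtain ⟨x', hx', h⟩ := q.isClosedMap.specializingMap (IsLocalRing.specializes_closedPoint (q x))
    exact ⟨x', h, hx'⟩
  have key : ∀ y, y = closedPoint A → ∀ w : ↥(q.fiber y), IsDomain ((q.fiber y).presheaf.stalk w) := by
    rintro y rfl w
    infer_instance
  have hdom : ∀ x : X, IsDomain (X.presheaf.stalk x) := fun x => by
    obtain ⟨x', hx', h⟩ := hsp x
    haveI := isDomain_stalk q x' hx' (key _ hx' _)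
    exact isDomain_stalk_of_specializes h
  haveI : ConnectedSpace X := by
    have hpre : _root_.IsPreconnected (q.base ⁻¹' {closedPoint A}) := by
      rw [← q.range_fiberι, ← Set.image_univ]
      exact isPreconnected_univ.image _ (q.fiberι _).continuous.continuousOn
    obtain ⟨w⟩ : Nonempty ↥(q.fiber (closedPoint A)) := inferInstance
    haveI : PreconnectedSpace X := by
      rw [preconnectedSpace_iff_connectedComponent]
      refine fun a => Set.eq_univ_of_forall fun b => ?_
      obtain ⟨a', ha', hsa⟩ := hsp a
      obtain ⟨b', hb', hsb⟩ := hsp b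
      have h1 : a' ∈ connectedComponent a := hsa.mem_closed isClosed_connectedComponent mem_connectedComponent
      have h2 : b' ∈ connectedComponent b := hsb.mem_closed isClosed_connectedComponent mem_connectedComponent
      rw [connectedComponent_eq h1, connectedComponent_eq (hpre.subset_connectedComponent ha' hb'),
        ← connectedComponent_eq h2]
      exact mem_connectedComponent
    exact { toPreconnectedSpace := inferInstance, toNonempty := ⟨q.fiberι _ w⟩ }
  exact isIntegral_of_isDomain_stalk hdom

/-- Irreducibility of the generic fibre over a finite separable extension. -/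
theorem irreducible_generic_finite [IsAdicComplete (maximalIdeal A) A] [IsAlgClosed (ResidueField A)]
    {X : Scheme.{u}} (q : X ⟶ Spec (CommRingCat.of A)) [IsProper q] [Flat q]
    (hint : IsIntegral (q.fiber (closedPoint A)))
    (L : Type u) [Field L] [Algebra A L] [Algebra (FractionRing A) L] [IsScalarTower A (FractionRing A) L]
    [Module.Finite (FractionRing A) L] [Algebra.IsSeparable (FractionRing A) L] :
    IrreducibleSpace ↥(pullback q (Spec.map (CommRingCat.ofHom (algebraMap A L)))) := by
  let A' := integralClosure A L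
  haveI : Module.Finite A A' := IsIntegralClosure.finite A (FractionRing A) L A'
  haveI : IsFractionRing A' L := IsIntegralClosure.isFractionRing_of_finite_extension A (FractionRing A) L A'
  haveI : IsLocalRing A' := CAlgMisc2.isLocalRing_of_finite_domain_complete (A := A)
  have hinj : Function.Injective (algebraMap A A') := by
    intro a b hab
    have h := congrArg Subtype.val hab
    simp only [Subalgebra.coe_algebraMap] at h
    rw [IsScalarTower.algebraMap_apply A (FractionRing A) L, IsScalarTower.algebraMap_apply A (FractionRing A) L] at h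
    exact IsFractionRing.injective A (FractionRing A) ((algebraMap (FractionRing A) L).injective h)
  have hnf : ¬ IsField A' := fun hf => IsDiscreteValuationRing.not_isField A
    (isField_of_isIntegral_of_isField hinj hf)
  haveI : IsPrincipalIdealRing A' := IsPrincipalIdealRing.of_finite_maximals
    ((Set.finite_singleton (maximalIdeal A')).subset fun I hI => IsLocalRing.eq_maximalIdeal hI)
  haveI : IsDiscreteValuationRing A' :=
    { not_a_field' := fun h => hnf (isField_iff_maximalIdeal_eq.2 h) }
  let a := Spec.map (CommRingCat.ofHom (algebraMap A A'))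
  let q' := pullback.snd q a
  haveI : IsLocalHom (algebraMap A A') := RingHom.IsIntegral.isLocalHom (algebraMap_isIntegral_iff.2 inferInstance) hinj
  -- the closed fibres agree
  have hk : Function.Surjective ((residue A').comp (algebraMap A A')) := by
    have h1 : (residue A').comp (algebraMap A A') = (algebraMap (ResidueField A) (ResidueField A')).comp (residue A) := rfl
    rw [h1, RingHom.coe_comp]
    exact ((IsAlgClosed.algebraMap_bijective_of_isIntegral (k := ResidueField A) (K := ResidueField A')).2).comp
      IsLocalRing.residue_surjective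
  let k := Spec.map (CommRingCat.ofHom ((residue A').comp (algebraMap A A')))
  haveI : IsClosedImmersion k := IsClosedImmersion.spec_of_surjective _ hk
  have hk' : k = sres A' ≫ a := by simp only [k, sres, a, ← Spec.map_comp, CommRingCat.ofHom_comp]
  haveI : IsClosedImmersion (sres A') := IsClosedImmersion.spec_of_surjective _ IsLocalRing.residue_surjective
  have hkc : k (closedPoint (ResidueField A')) = closedPoint A := by
    rw [hk']
    show a (sres A' (closedPoint (ResidueField A'))) = _
    rw [show sres A' (closedPoint (ResidueField A')) = closedPoint A' from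
      (ProperDvr.range_specMap_residue A').le ⟨_, rfl⟩]
    exact IsLocalRing.comap_closedPoint (algebraMap A A')
  obtain ⟨e₁⟩ := exists_iso_fiber q' (closedPoint A') (sres A') ((ProperDvr.range_specMap_residue A').le ⟨_, rfl⟩)
  obtain ⟨e₂⟩ := exists_iso_fiber q (closedPoint A) k hkc
  let p := (IsPullback.of_hasPullback q' (sres A')).paste_horiz (IsPullback.of_hasPullback q a)
  rw [← hk'] at p
  let e : q'.fiber (closedPoint A') ≅ q.fiber (closedPoint A) := e₁.symm ≪≫ p.isoPullback ≪≫ e₂
  haveI : Nonempty ↥(q'.fiber (closedPoint A')) := ⟨e.inv (Classical.arbitrary _)⟩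
  haveI : IsIntegral (q'.fiber (closedPoint A')) := isIntegral_of_isOpenImmersion e.hom
  haveI : IsIntegral (pullback q a) := isIntegral_of_closedFibre q'
  -- identify the generic fibre
  let l := Spec.map (CommRingCat.ofHom (algebraMap A' L))
  have hl : l ≫ a = Spec.map (CommRingCat.ofHom (algebraMap A L)) := by
    simp only [l, a, ← Spec.map_comp, ← CommRingCat.ofHom_comp, ← IsScalarTower.algebraMap_eq]
  haveI : IsPreimmersion l := IsPreimmersion.of_isLocalization (nonZeroDivisors A')
  have hlr : Set.range l = {(⟨⊥, Ideal.isPrime_bot⟩ : PrimeSpectrum A')} := by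
    ext p
    constructor
    · rintro ⟨t, rfl⟩
      refine PrimeSpectrum.ext ?_
      show Ideal.comap (algebraMap A' L) (t : PrimeSpectrum L).asIdeal = ⊥
      rw [((t : PrimeSpectrum L).asIdeal.eq_bot_or_top).resolve_right (PrimeSpectrum.isPrime _).ne_top]
      exact (RingHom.injective_iff_ker_eq_bot _).1 (IsFractionRing.injective A' L)
    · rintro rfl
      refine ⟨closedPoint L, PrimeSpectrum.ext ?_⟩
      show Ideal.comap (algebraMap A' L) (maximalIdeal L) = ⊥
      rw [maximalIdeal_eq_bot]
      exact (RingHom.injective_iff_ker_eq_bot _).1 (IsFractionRing.injective A' L)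
  have hr : Set.range (pullback.fst q' l) = Set.range (q'.fiberι (⟨⊥, Ideal.isPrime_bot⟩ : PrimeSpectrum A')) := by
    rw [Scheme.Pullback.range_fst, q'.range_fiberι, hlr]
  haveI : IrreducibleSpace ↥(pullback q' l) := by
    have hopen : IsOpen (Set.range (pullback.fst q' l)) := by
      rw [Scheme.Pullback.range_fst, hlr]
      obtain ⟨ϖ, hϖ⟩ := IsDiscreteValuationRing.exists_irreducible A'
      rw [← FlatMorDVR.basicOpen_uniformizer hϖ]
      exact (PrimeSpectrum.basicOpen ϖ).isOpen.preimage q'.continuous
    obtain ⟨w⟩ : Nonempty ↥(pullback q a) := inferInstance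
    obtain ⟨z, -, hz⟩ := Flat.generalizingMap q' (show (⟨⊥, Ideal.isPrime_bot⟩ : PrimeSpectrum A') ⤳ q' w from
      (PrimeSpectrum.le_iff_specializes _ _).1 bot_le)
    have hzr : z ∈ Set.range (pullback.fst q' l) := by rw [Scheme.Pullback.range_fst, hlr]; exact hz
    obtain ⟨v, -⟩ := hzr
    have hirr : _root_.IsPreirreducible (Set.range (pullback.fst q' l)) :=
      (IrreducibleSpace.isIrreducible_univ _).2.open_subset hopen (Set.subset_univ _)
    refine (irreducibleSpace_def _).2 ⟨⟨v, trivial⟩, ?_⟩
    intro u u' hu hu' ⟨s, _, hs⟩ ⟨s', _, hs'⟩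
    obtain ⟨U, hU, rfl⟩ := (pullback.fst q' l).isEmbedding.isInducing.isOpen_iff.1 hu
    obtain ⟨U', hU', rfl⟩ := (pullback.fst q' l).isEmbedding.isInducing.isOpen_iff.1 hu'
    obtain ⟨_, ⟨r, rfl⟩, hr⟩ := hirr U U' hU hU' ⟨_, ⟨s, rfl⟩, hs⟩ ⟨_, ⟨s', rfl⟩, hs'⟩
    exact ⟨r, trivial, hr⟩
  let pL := (IsPullback.of_hasPullback q' l).paste_horiz (IsPullback.of_hasPullback q a)
  rw [hl] at pL
  haveI : Nonempty ↥(pullback q (Spec.map (CommRingCat.ofHom (algebraMap A L)))) :=
    ⟨pL.isoPullback.hom (Classical.arbitrary _)⟩
  exact pL.isoPullback.hom.homeomorph.symm.isOpenEmbedding.irreducibleSpace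

end Groth.Agent.EGA43.GeomIntegral
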