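import Groth.Agent.EGA43.GeomIntegral.Dvr
import Groth.Agent.EGA43.ConnCount.ProperFlat
import Groth.Agent.FlatMorGeomIrr.CountOne

/-!
# The locus of geometrically integral fibres of a proper flat morphism (EGA IV 12.2.4 (viii))
-/

set_option autoImplicit false
set_option backward.isDefEq.respectTransparency false
set_option linter.style.haveILetI false

universe u

open CategoryTheory CategoryTheory.Limits AlgebraicGeometry TopologicalSpace Opposite IsLocalRing

namespace Groth.Agent.EGA43.GeomIntegral

open Groth.Agent Groth.Agent.EGA43.ConnCount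

section Field

variable {k : Type u} [Field k] {X : Scheme.{u}} (f : X ⟶ Spec (CommRingCat.of k))

/-- Irreducibility passes along a purely inseparable finite extension. -/
theorem irreducibleSpace_of_isPurelyInseparable (L M : Type u) [Field L] [Field M] [Algebra k L]
    [Algebra k M] [Algebra L M] [IsScalarTower k L M] [IsPurelyInseparable L M] [Module.Finite L M]
    (h : IrreducibleSpace ↥(pullback f (H8Lim.algSpec k L))) :
    IrreducibleSpace ↥(pullback f (H8Lim.algSpec k M)) := by
  have hu := H8Lim.universallyInjective_algSpec L M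
  have : IsFinite (H8Lim.algSpec L M) := (IsFinite.SpecMap_iff _).mpr (by
    simpa [RingHom.finite_algebraMap] using ‹Module.Finite L M›)
  have : Surjective (H8Lim.algSpec L M) :=
    ⟨fun z => ⟨Classical.arbitrary _, Subsingleton.elim (α := PrimeSpectrum L) _ _⟩⟩
  have e : H8Lim.algSpec L M ≫ H8Lim.algSpec k L = H8Lim.algSpec k M := by
    rw [← Spec.map_comp, ← CommRingCat.ofHom_comp, ← IsScalarTower.algebraMap_eq]
  let P := pullback (pullback.snd f (H8Lim.algSpec k L)) (H8Lim.algSpec L M)
  let p : P ⟶ pullback f (H8Lim.algSpec k L) := pullback.fst _ _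
  have : UniversallyInjective p := MorphismProperty.pullback_fst (P := @UniversallyInjective) _ _ hu
  have : Surjective p := MorphismProperty.pullback_fst (P := @Surjective) _ _ inferInstance
  have : IsFinite p := MorphismProperty.pullback_fst (P := @IsFinite) _ _ inferInstance
  have hp : IsHomeomorph p := isHomeomorph_iff_continuous_isClosedMap_bijective.mpr
    ⟨p.continuous, p.isClosedMap, p.injective, p.surjective⟩
  let φ : P ≅ pullback f (H8Lim.algSpec k M) :=
    pullbackLeftPullbackSndIso f (H8Lim.algSpec k L) (H8Lim.algSpec L M) ≪≫ pullback.congrHom rfl e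
  haveI : Nonempty ↥(pullback f (H8Lim.algSpec k M)) := by
    obtain ⟨w, -⟩ := p.surjective (Classical.arbitrary _)
    exact ⟨φ.hom w⟩
  exact ((φ.inv.homeomorph.trans hp.homeomorph).isOpenEmbedding).irreducibleSpace

/-- Irreducibility over finite separable extensions gives irreducibility over all finite extensions. -/
theorem irreducibleSpace_of_separable
    (h : ∀ (K : Type u) [Field K] [Algebra k K] [Module.Finite k K] [Algebra.IsSeparable k K],
      IrreducibleSpace ↥(pullback f (H8Lim.algSpec k K)))
    (M : Type u) [Field M] [Algebra k M] [Module.Finite k M] :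
    IrreducibleSpace ↥(pullback f (H8Lim.algSpec k M)) := by
  have : Module.Finite (separableClosure k M) M := Module.Finite.of_restrictScalars_finite k _ _
  exact irreducibleSpace_of_isPurelyInseparable f (separableClosure k M) M (h (separableClosure k M))

/-- Irreducibility over all finite extensions gives irreducibility over an algebraic one. -/
theorem irreducibleSpace_of_finite (K : Type u) [Field K] [Algebra k K] [Algebra.IsAlgebraic k K]
    (h : ∀ (M : Type u) [Field M] [Algebra k M] [Module.Finite k M],
      IrreducibleSpace ↥(pullback f (H8Lim.algSpec k M))) :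
    IrreducibleSpace ↥(pullback f (H8Lim.algSpec k K)) := by
  classical
  haveI := h k
  haveI : Nonempty X := ⟨pullback.fst f (H8Lim.algSpec k k) (Classical.arbitrary _)⟩
  haveI : Surjective (H8Lim.algSpec k K) :=
    ⟨fun z => ⟨Classical.arbitrary _, Subsingleton.elim (α := PrimeSpectrum k) _ _⟩⟩
  obtain ⟨p₀, -⟩ := (pullback.fst f (H8Lim.algSpec k K)).surjective (Classical.arbitrary X)
  refine (irreducibleSpace_def _).2 ⟨⟨p₀, trivial⟩, ?_⟩
  rintro U V hU hV ⟨p, -, hp⟩ ⟨q, -, hq⟩
  obtain ⟨σ, hσ⟩ := H8Lim.exists_finset_nhd f K hU hp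
  obtain ⟨τ, hτ⟩ := H8Lim.exists_finset_nhd f K hV hq
  let M : IntermediateField k K := IntermediateField.adjoin k (↑(σ ∪ τ) : Set K)
  haveI : Module.Finite k M := IntermediateField.finiteDimensional_adjoin fun x _ =>
    Algebra.IsIntegral.isIntegral x
  have hM : (↑(σ ∪ τ) : Set K) ⊆ (M.toSubalgebra : Set K) := IntermediateField.subset_adjoin k _
  obtain ⟨O₁, hO₁⟩ := hσ M.toSubalgebra fun x hx => hM (Finset.mem_union_left _ hx)
  obtain ⟨O₂, hO₂⟩ := hτ M.toSubalgebra fun x hx => hM (Finset.mem_union_right _ hx)
  let g : Spec (CommRingCat.of K) ⟶ Spec (CommRingCat.of M.toSubalgebra) :=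
    Spec.map (CommRingCat.ofHom M.toSubalgebra.val.toRingHom)
  have hg : g ≫ H8Lim.algSpec k M.toSubalgebra = H8Lim.algSpec k K := by
    rw [← Spec.map_comp, ← CommRingCat.ofHom_comp]; rfl
  let κ : pullback f (H8Lim.algSpec k K) ⟶ pullback f (H8Lim.algSpec k M.toSubalgebra) :=
    pullback.map _ _ _ _ (𝟙 _) g (𝟙 _) (by simp) ((Category.comp_id _).trans hg.symm)
  have hκ₁ : κ ≫ pullback.fst _ _ = pullback.fst _ _ := (pullback.lift_fst _ _ _).trans (Category.comp_id _)
  have hκ₂ : κ ≫ pullback.snd _ _ = pullback.snd _ _ ≫ g := pullback.lift_snd _ _ _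
  obtain ⟨hp₁, hU₁⟩ := hO₁ κ hκ₁ hκ₂
  obtain ⟨hq₂, hV₂⟩ := hO₂ κ hκ₁ hκ₂
  haveI : IrreducibleSpace ↥(pullback f (H8Lim.algSpec k M.toSubalgebra)) := h M
  obtain ⟨z, -, hz⟩ := (IrreducibleSpace.isIrreducible_univ _).2 _ _ O₁.2 O₂.2
    ⟨κ p, trivial, hp₁⟩ ⟨κ q, trivial, hq₂⟩
  have hr : z ∈ Set.range κ := by
    rw [Scheme.Pullback.range_map]
    refine ⟨⟨_, rfl⟩, Classical.arbitrary _, ?_⟩
    exact Subsingleton.elim (α := PrimeSpectrum M) _ _
  obtain ⟨w, rfl⟩ := hr
  exact ⟨w, trivial, hU₁ hz.1, hV₂ hz.2⟩

end Field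

section Complete

variable {A : Type u} [CommRing A] [IsDomain A] [IsDiscreteValuationRing A]
  [IsAdicComplete (maximalIdeal A) A] [IsAlgClosed (ResidueField A)]

/-- A proper flat family with integral closed fibre has irreducible geometric generic fibre. -/
theorem irreducibleSpace_geometric_generic {X : Scheme.{u}} (q : X ⟶ Spec (CommRingCat.of A)) [IsProper q]
    [Flat q] (hint : IsIntegral (q.fiber (closedPoint A))) :
    IrreducibleSpace ↥(pullback q (sgen A)) := by
  let K := FractionRing A
  let sK := Spec.map (CommRingCat.ofHom (algebraMap A K))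
  let f := pullback.snd q sK
  have hM : ∀ (M : Type u) [Field M] [Algebra K M] [Module.Finite K M],
      IrreducibleSpace ↥(pullback f (H8Lim.algSpec K M)) := by
    intro M _ _ _
    refine irreducibleSpace_of_separable f (fun L _ _ _ _ => ?_) M
    letI : Algebra A L := ((algebraMap K L).comp (algebraMap A K)).toAlgebra
    haveI : IsScalarTower A K L := IsScalarTower.of_algebraMap_eq fun _ => rfl
    haveI := irreducible_generic_finite q hint L
    let e := (IsPullback.of_hasPullback f (H8Lim.algSpec K L)).paste_horiz (IsPullback.of_hasPullback q sK)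
    have he : H8Lim.algSpec K L ≫ sK = Spec.map (CommRingCat.ofHom (algebraMap A L)) := by
      simp only [H8Lim.algSpec, sK, ← Spec.map_comp, ← CommRingCat.ofHom_comp, ← IsScalarTower.algebraMap_eq]
    rw [he] at e
    haveI : Nonempty ↥(pullback f (H8Lim.algSpec K L)) := ⟨e.isoPullback.inv (Classical.arbitrary _)⟩
    exact e.isoPullback.hom.homeomorph.isOpenEmbedding.irreducibleSpace
  haveI := irreducibleSpace_of_finite f (AlgebraicClosure K) hM
  let e := (IsPullback.of_hasPullback f (H8Lim.algSpec K (AlgebraicClosure K))).paste_horiz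
    (IsPullback.of_hasPullback q sK)
  have he : H8Lim.algSpec K (AlgebraicClosure K) ≫ sK = sgen A := by
    simp only [H8Lim.algSpec, sK, sgen, K, ← Spec.map_comp, ← CommRingCat.ofHom_comp]
  rw [he] at e
  haveI : Nonempty ↥(pullback q (sgen A)) := ⟨e.isoPullback.hom (Classical.arbitrary _)⟩
  exact e.isoPullback.inv.homeomorph.isOpenEmbedding.irreducibleSpace

/-- The generic fibre has one geometric irreducible component. -/
theorem count_generic_eq_one {X : Scheme.{u}} (q : X ⟶ Spec (CommRingCat.of A)) [IsProper q]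
    [Flat q] (hint : IsIntegral (q.fiber (closedPoint A))) :
    MoreMor.nGeomIrredComp q (genericPoint (Spec (CommRingCat.of A))) = 1 := by
  rw [← (FlatMorGeomIrr.counts_eq_geomFiber q (sgen A) (closedPoint _) (sgen_apply _)).1]
  exact FlatMorGeomIrr.irreducibleSpace_iff_encard_eq_one.1 (irreducibleSpace_geometric_generic q hint)

end Complete

variable {X Y : Scheme.{u}}

/-- Geometric integrality of a fibre in terms of the count. -/
theorem geometricallyIntegral_iff (f : X ⟶ Y) (y : Y) :
    GeometricallyIntegral (f.fiberToSpecResidueField y) ↔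
      GeometricallyReduced (f.fiberToSpecResidueField y) ∧ MoreMor.nGeomIrredComp f y = 1 := by
  rw [← FlatMorGeomIrr.geometricallyIrreducible_iff_count]
  exact ⟨fun h => ⟨inferInstance, inferInstance⟩, fun ⟨h1, h2⟩ =>
    .of_geometricallyReduced_of_geometricallyIrreducible _⟩

/-- Stability under generization. -/
theorem count_eq_one_of_specializes [IsLocallyNoetherian Y] (f : X ⟶ Y) [IsProper f] [Flat f] {y y' : Y}
    (hsp : y' ⤳ y) (hint : GeometricallyIntegral (f.fiberToSpecResidueField y)) :
    MoreMor.nGeomIrredComp f y' = 1 := by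
  by_cases hne : y' = y
  · rw [hne]; exact ((geometricallyIntegral_iff f y).1 hint).2
  obtain ⟨C, _, _, _, _, _, g, hgs, hgη⟩ := exists_completeDvr_of_specializes hsp hne
  rw [← hgη, ← (FlatMorGeomIrr.counts_baseChange f (pullback.snd f g) _ g (IsPullback.of_hasPullback f g) _).1]
  refine count_generic_eq_one (pullback.snd f g) ?_
  have key : ∀ z, z = y → GeometricallyIntegral (f.fiberToSpecResidueField z) := by rintro z rfl; exact hint
  haveI := key _ hgs
  exact GeometricallyIntegral.geometrically_isIntegral (f := f.fiberToSpecResidueField (g (closedPoint C))) _ _ _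
    (isPullback_fiberToSpecResidueField_of_isPullback (IsPullback.of_hasPullback f g) (closedPoint C))

variable (f : X ⟶ Y) [IsProper f] [Flat f] [LocallyOfFinitePresentation f]

/-- The geometrically integral fibres form an open set. -/
theorem isOpen_geometricallyIntegral_locus :
    IsOpen {y : Y | GeometricallyIntegral (f.fiberToSpecResidueField y)} := by
  simp only [geometricallyIntegral_iff]
  rw [isOpen_iff_mem_nhds]
  rintro y ⟨hred, hy⟩
  obtain ⟨B, _, T, j, _, σ, X₀, f₀, _, _, q, ⟨p, rfl⟩, sq⟩ := exists_model_nhd f y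
  haveI : LocallyOfFinitePresentation f₀ := inferInstance
  have hn : ∀ t, MoreMor.nGeomIrredComp f (j t) = MoreMor.nGeomIrredComp f₀ (σ t) := fun t =>
    ((FlatMorGeomIrr.counts_baseChange f (pullback.snd f j) _ j (IsPullback.of_hasPullback f j) t).1.symm.trans
      (FlatMorGeomIrr.counts_baseChange f₀ (pullback.snd f j) q σ sq t).1)
  have h1 : p ∈ {t : T | GeometricallyReduced ((pullback.snd f j).fiberToSpecResidueField t)} := by
    rw [Groth.Agent.S9735.result f j (pullback.snd f j) _ (IsPullback.of_hasPullback f j)]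
    exact hred
  rw [Groth.Agent.S9735.result f₀ σ (pullback.snd f j) q sq] at h1
  have hint : GeometricallyIntegral (f₀.fiberToSpecResidueField (σ p)) :=
    (geometricallyIntegral_iff f₀ _).2 ⟨h1, (hn p).symm.trans hy⟩
  have hW : {z | MoreMor.nGeomIrredComp f₀ z = 1} ∈ nhds (σ p) :=
    DimFormula.mem_nhds_of_isLocallyConstructible (FlatMorGeomIrr.isLocallyConstructible_counts f₀ 1).1
      fun y' hy' => count_eq_one_of_specializes f₀ hy' hint
  refine Filter.mem_of_superset (Filter.inter_mem ((isOpen_geometricallyReduced_locus f).mem_nhds hred)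
    (j.isOpenEmbedding.isOpenMap.image_mem_nhds (σ.continuous.continuousAt.preimage_mem_nhds hW))) ?_
  rintro _ ⟨hz, t, ht, rfl⟩
  exact ⟨hz, (hn t).trans ht⟩

end Groth.Agent.EGA43.GeomIntegral
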